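import Mathlib
import Groth.Agent.CAlgReg.Serre
import Groth.Agent.RegNormal.StablyFree
import Groth.Agent.GrassLib.Nagata

/-!
# Regular local rings are factorial (Auslander–Buchsbaum)
-/

set_option autoImplicit false
set_option linter.style.haveILetI false

universe u v

namespace Groth.Agent.RegUFD

open IsLocalRing

theorem isRegularLocalRing_atPrime (R : Type u) [CommRing R] [IsRegularLocalRing R] (p : Ideal R) [p.IsPrime] :
    IsRegularLocalRing (Localization.AtPrime p) := by
  obtain ⟨d, hd⟩ := CAlgReg.exists_dim (R := R)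
  haveI : IsNoetherianRing (Localization.AtPrime p) := IsLocalization.isNoetherianRing p.primeCompl _ inferInstance
  have h := CAlgReg.pdLT_localization p.primeCompl d (R ⧸ p) (CAlgReg.pdLT_of_isRegularLocalRing hd (R ⧸ p))
  refine CAlgReg.isRegularLocalRing_of_pdLT (CAlgReg.pdLT_congr ?_ h)
  exact (Algebra.TensorProduct.quotIdealMapEquivTensorQuot (Localization.AtPrime p) p).toLinearEquiv.symm.trans
    (Submodule.quotEquivOfEq _ _ (Localization.AtPrime.map_eq_maximalIdeal (I := p)))

/-- A Noetherian domain in which the intersection of two principal ideals is principal is factorial. -/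
theorem ufd_of_inf_principal {R : Type u} [CommRing R] [IsDomain R] [IsNoetherianRing R]
    (h : ∀ a b : R, a ≠ 0 → b ≠ 0 → (Ideal.span {a} ⊓ Ideal.span {b}).IsPrincipal) :
    UniqueFactorizationMonoid R := by
  refine ⟨fun {a} => ⟨fun ha => ⟨ha.ne_zero, ha.not_isUnit, fun x y hxy => ?_⟩, Prime.irreducible⟩⟩
  by_cases hax : a ∣ x
  · exact Or.inl hax
  refine Or.inr ?_
  have hx0 : x ≠ 0 := fun h0 => hax (h0 ▸ dvd_zero a)
  obtain ⟨c, hc⟩ := (h a x ha.ne_zero hx0).principal
  have hmem : ∀ z, (a ∣ z ∧ x ∣ z) ↔ c ∣ z := fun z => by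
    rw [← Ideal.mem_span_singleton, ← Ideal.mem_span_singleton, ← Ideal.mem_span_singleton]
    exact ⟨fun hh => (show z ∈ Submodule.span R {c} from hc ▸ hh), fun hh => (show z ∈ Ideal.span {a} ⊓ Ideal.span {x} from hc.symm ▸ hh)⟩
  obtain ⟨⟨s', hs'⟩, ⟨t, ht⟩⟩ := (hmem c).2 dvd_rfl
  obtain ⟨s, hs⟩ := (hmem (a * x)).1 ⟨dvd_mul_right a x, dvd_mul_left x a⟩
  have hts : a = t * s := mul_right_cancel₀ hx0 (by rw [hs, ht]; ring)
  rcases ha.isUnit_or_isUnit hts with hu | hu
  · exfalso
    apply hax
    obtain ⟨w, hw⟩ := hu.exists_right_inv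
    exact ⟨s' * w, by rw [← mul_assoc, ← hs', ht, mul_assoc, hw, mul_one]⟩
  · have : a * x ∣ x * y := by
      rw [hs]
      exact hu.mul_right_dvd.2 ((hmem _).1 ⟨hxy, dvd_mul_right x y⟩)
    rw [mul_comm a x] at this
    exact (mul_dvd_mul_iff_left hx0).1 this

/-- In a factorial ring the intersection of two principal ideals is principal. -/
theorem inf_principal_of_ufd {R : Type u} [CommRing R] [IsDomain R] [UniqueFactorizationMonoid R]
    (a b : R) : (Ideal.span {a} ⊓ Ideal.span {b}).IsPrincipal := by
  classical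
  letI := UniqueFactorizationMonoid.toGCDMonoid R
  exact ⟨lcm a b, by
    ext z
    show (z ∈ Ideal.span {a} ∧ z ∈ Ideal.span {b}) ↔ z ∈ Ideal.span {lcm a b}
    simp only [Ideal.mem_span_singleton, lcm_dvd_iff]⟩

/-- Locally principal ideals are principal when the Picard group is trivial. -/
theorem isPrincipal_of_locally {R : Type u} [CommRing R] [IsDomain R] [Subsingleton (CommRing.Pic R)]
    (I : Ideal R) {a : R} (ha : a ∈ I) (ha0 : a ≠ 0)
    (h : ∀ M : Ideal R, M.IsMaximal → ∃ g ∈ I, ∃ s ∉ M, ∀ y ∈ I, g ∣ s * y) : I.IsPrincipal := by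
  let J : Ideal R :=
    { carrier := {j | ∀ y ∈ I, a ∣ j * y}
      add_mem' := fun hj hk y hy => by rw [add_mul]; exact dvd_add (hj y hy) (hk y hy)
      zero_mem' := fun y _ => by simp
      smul_mem' := fun r j hj y hy => by rw [smul_eq_mul, mul_assoc]; exact (hj y hy).mul_left r }
  have hIJ : I * J = Ideal.span {a} := by
    refine le_antisymm (Ideal.mul_le.2 fun y hy j hj => Ideal.mem_span_singleton.2 (mul_comm j y ▸ hj y hy)) ?_
    rw [Ideal.span_singleton_le_iff_mem]
    let C : Ideal R := Submodule.comap (LinearMap.toSpanSingleton R R a) (I * J)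
    suffices C = ⊤ by
      have h1 : (1 : R) ∈ C := this ▸ trivial
      simpa [C] using h1
    by_contra hC
    obtain ⟨M, hM, hCM⟩ := Ideal.exists_le_maximal C hC
    obtain ⟨g, hg, s, hs, hgy⟩ := h M hM
    obtain ⟨r, hr⟩ := hgy a ha
    have hj : r * s ∈ J := fun y hy => by
      obtain ⟨c, hc⟩ := hgy y hy
      exact ⟨s * c, by rw [mul_assoc, hc]; linear_combination (-c) * hr⟩
    have : s * s ∈ C := by
      show (s * s) • a ∈ I * J
      have e : g * (r * s) = (s * s) • a := by rw [smul_eq_mul]; linear_combination (-s) * hr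
      exact e ▸ Ideal.mul_mem_mul hg hj
    rcases hM.isPrime.mem_or_mem (hCM this) with h' | h' <;> exact hs h'
  let K := FractionRing R
  have hu : IsUnit ((I : FractionalIdeal (nonZeroDivisors R) K)) := by
    refine IsUnit.of_mul_eq_one ((J : FractionalIdeal (nonZeroDivisors R) K) * (FractionalIdeal.spanSingleton _ (algebraMap R K a))⁻¹) ?_
    rw [← mul_assoc, ← FractionalIdeal.coeIdeal_mul, hIJ, FractionalIdeal.coeIdeal_span_singleton,
      FractionalIdeal.spanSingleton_inv, FractionalIdeal.spanSingleton_mul_spanSingleton,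
      mul_inv_cancel₀ (by simpa using ha0), FractionalIdeal.spanSingleton_one]
  haveI : Subsingleton (ClassGroup R) := (ClassGroup.equivPic R).toEquiv.subsingleton
  have hp := (ClassGroup.mk_eq_one_iff (I := hu.unit)).1 (Subsingleton.elim _ _)
  rw [IsUnit.unit_spec, FractionalIdeal.coe_coeIdeal, IsFractionRing.coeSubmodule_isPrincipal] at hp
  exact hp

theorem ufd_aux : ∀ (d : ℕ) (A : Type u) [CommRing A] [IsRegularLocalRing A] [IsDomain A],
    ringKrullDim A ≤ (d : ℕ) → UniqueFactorizationMonoid A := by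
  intro d
  induction d using Nat.strong_induction_on with
  | _ d ih =>
  intro A _ _ _ hd
  obtain ⟨n, hn⟩ := CAlgReg.exists_dim (R := A)
  rcases n with _ | m
  · haveI : Ring.KrullDimLE 0 A := Ring.krullDimLE_iff.2 hn.le
    haveI : IsPrincipalIdealRing A := by
      letI := (Ring.KrullDimLE.isField_of_isDomain (R := A)).toField
      infer_instance
    infer_instance
  obtain ⟨x, hx, hx2⟩ := SetLike.not_le_iff_exists.1 (CAlgReg.not_maximalIdeal_le_sq hn)
  have hxp : Prime x := by
    have hx0 : x ≠ 0 := fun h => hx2 (h ▸ Ideal.zero_mem _)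
    haveI := (CAlgReg.quotient_span_singleton hx hx2 hn).2.1
    haveI : IsDomain (A ⧸ Ideal.span {x}) := CAlgReg.isDomain
    exact (Ideal.span_singleton_prime hx0).1 ((Ideal.Quotient.isDomain_iff_prime _).1 inferInstance)
  let L := Localization.Away x
  have hle : Submonoid.powers x ≤ nonZeroDivisors A := powers_le_nonZeroDivisors_of_noZeroDivisors hxp.ne_zero
  haveI : IsDomain L := IsLocalization.isDomain_localization hle
  haveI := RegNormal.pic_away_subsingleton x
  haveI : IsNoetherianRing L := IsLocalization.isNoetherianRing (Submonoid.powers x) L inferInstance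
  suffices UniqueFactorizationMonoid L from GrassLib.ufd_of_away x hxp L
  refine ufd_of_inf_principal fun a b ha hb => isPrincipal_of_locally _
    (a := a * b) ⟨Ideal.mem_span_singleton.2 (dvd_mul_right a b), Ideal.mem_span_singleton.2 (dvd_mul_left b a)⟩ (mul_ne_zero ha hb) fun M hM => ?_
  let p := M.under A
  haveI : p.IsPrime := Ideal.IsPrime.under A M
  have hpx : x ∉ p := fun h => hM.ne_top (Ideal.eq_top_of_isUnit_mem M h (IsLocalization.map_units L (⟨x, Submonoid.mem_powers x⟩ : Submonoid.powers x)))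
  have hlt : p < maximalIdeal A := lt_of_le_of_ne (IsLocalRing.le_maximalIdeal ‹p.IsPrime›.ne_top) fun h => hpx (h ▸ hx)
  have hdp : ringKrullDim (Localization.AtPrime p) ≤ (m : ℕ) := by
    have h1 := Ideal.height_strict_mono_of_isPrime hlt
    have h2 := IsLocalRing.maximalIdeal_height_eq_ringKrullDim (R := A)
    rw [hn] at h2
    have h2' : (maximalIdeal A).height = ((m + 1 : ℕ) : ℕ∞) := by exact_mod_cast h2
    rw [IsLocalization.AtPrime.ringKrullDim_eq_height p]
    rw [h2', Nat.cast_add, Nat.cast_one] at h1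
    exact_mod_cast (Order.lt_add_one_iff_of_not_isMax (by simp)).1 h1
  haveI : IsRegularLocalRing (Localization.AtPrime p) := isRegularLocalRing_atPrime A p
  haveI : IsDomain (Localization.AtPrime p) := CAlgReg.isDomain
  have hm : m < d := by
    rw [hn] at hd
    exact_mod_cast hd
  haveI := ih m hm (Localization.AtPrime p) hdp
  haveI : IsLocalization.AtPrime (Localization.AtPrime M) p :=
    IsLocalization.isLocalization_isLocalization_atPrime_isLocalization (Submonoid.powers x) (Localization.AtPrime M) M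
  let e : Localization.AtPrime p ≃ₐ[A] Localization.AtPrime M := IsLocalization.algEquiv p.primeCompl _ _
  haveI : UniqueFactorizationMonoid (Localization.AtPrime M) :=
    e.toRingEquiv.toMulEquiv.uniqueFactorizationMonoid inferInstance
  let I := Ideal.span {a} ⊓ Ideal.span {b}
  haveI : (I.map (algebraMap L (Localization.AtPrime M))).IsPrincipal := by
    rw [IsLocalization.map_inf M.primeCompl, Ideal.map_span, Ideal.map_span, Set.image_singleton, Set.image_singleton]
    exact inf_principal_of_ufd _ _
  set G := Submodule.IsPrincipal.generator (I.map (algebraMap L (Localization.AtPrime M)))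
  obtain ⟨⟨⟨g, hg⟩, t⟩, hgt⟩ := (IsLocalization.mem_map_algebraMap_iff M.primeCompl _).1
    (Submodule.IsPrincipal.generator_mem (I.map (algebraMap L (Localization.AtPrime M))))
  obtain ⟨F, hF⟩ := (inferInstance : IsNoetherian L L).noetherian I
  have key : ∀ y ∈ I, ∃ s : M.primeCompl, g ∣ (s : L) * y := by
    intro y hy
    have : algebraMap L (Localization.AtPrime M) y ∈ I.map (algebraMap L (Localization.AtPrime M)) := Ideal.mem_map_of_mem _ hy
    obtain ⟨c, hc⟩ := (Submodule.IsPrincipal.mem_iff_generator_dvd _).1 this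
    obtain ⟨⟨c₀, w⟩, hcw⟩ := IsLocalization.surj M.primeCompl c
    have h4 : algebraMap L (Localization.AtPrime M) ((t : L) * w * y) = algebraMap L (Localization.AtPrime M) (g * c₀) := by
      simp only at hgt hcw
      rw [map_mul, map_mul, map_mul, hc, ← hgt, ← hcw]
      ring
    obtain ⟨z, hz⟩ := (IsLocalization.eq_iff_exists M.primeCompl _).1 h4
    exact ⟨z * (t * w), ⟨z * c₀, by simp only [Submonoid.coe_mul]; linear_combination hz⟩⟩
  choose s hs using key
  have hF' : ∀ y ∈ F, y ∈ I := fun y hy => hF ▸ Submodule.subset_span hy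
  refine ⟨g, hg, ((∏ y ∈ F.attach, s y.1 (hF' y.1 y.2) : M.primeCompl) : L),
    (∏ y ∈ F.attach, s y.1 (hF' y.1 y.2) : M.primeCompl).2, fun y hy => ?_⟩
  rw [show Ideal.span {a} ⊓ Ideal.span {b} = Submodule.span L (F : Set L) from hF.symm] at hy
  induction hy using Submodule.span_induction with
  | mem y hy =>
    refine (hs y (hF' y hy)).trans (mul_dvd_mul_right ?_ y)
    exact map_dvd M.primeCompl.subtype (Finset.dvd_prod_of_mem (fun z : F => s z.1 (hF' z.1 z.2)) (Finset.mem_attach F ⟨y, hy⟩))
  | zero => simp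
  | add u v _ _ hu hv => rw [mul_add]; exact dvd_add hu hv
  | smul r u _ hu => rw [smul_eq_mul, mul_left_comm]; exact hu.mul_left r

/-- Regular local rings are factorial. -/
theorem ufd (A : Type u) [CommRing A] [IsRegularLocalRing A] [IsDomain A] : UniqueFactorizationMonoid A := by
  obtain ⟨n, hn⟩ := CAlgReg.exists_dim (R := A)
  exact ufd_aux n A hn.le

end Groth.Agent.RegUFD
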